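import Groth.Agent.CountHilb.Union
import Groth.Agent.QuotProj.HilbQ
import Groth.Agent.GrT.TwistTensor

/-!
# Hilbert schemes are countable disjoint unions of projective schemes
-/

set_option autoImplicit false
set_option backward.isDefEq.respectTransparency false
set_option backward.isDefEq.respectTransparency.types false
set_option linter.style.haveILetI false
set_option maxHeartbeats 1000000

universe u

open CategoryTheory CategoryTheory.Limits AlgebraicGeometry

namespace Groth.Agent.FreeCurve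

/-- Hilbert schemes are countable disjoint unions of projective schemes. -/
theorem exists_hilb_countable (S : Scheme.{u}) [IsNoetherian S] (n : ℕ) (X : Scheme.{u})
    (i : X ⟶ CohB1.ProjSpaceOver n S) [IsClosedImmersion i] :
    ∃ (H : Over S) (Z : FGA.HilbSet (i ≫ CohB1.ProjSpaceOver.toBase n S) H),
      FGA.HilbRepresentedBy (i ≫ CohB1.ProjSpaceOver.toBase n S) H Z ∧
      ∃ (ι : Type u) (_ : Countable ι) (P : ι → Scheme.{u}) (e : (∐ P) ≅ H.left) (r : ι → ℕ)
        (c : ∀ a, P a ⟶ CohB1.ProjSpaceOver (r a) S),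
        ∀ a, IsClosedImmersion (c a) ∧
          c a ≫ CohB1.ProjSpaceOver.toBase (r a) S = Limits.Sigma.ι P a ≫ e.hom ≫ H.hom := by
  haveI : IsProper (CohB1.ProjSpaceOver.toBase n S) := HQProj.isProper_toBase n S
  haveI : IsProper (i ≫ CohB1.ProjSpaceOver.toBase n S) := inferInstance
  have hO : Coh.IsCoh (Coh.structureModule X) := ⟨QC.isQCoh_unit _, TMul.isFT_structureModule _⟩
  obtain ⟨z⟩ := GrT.nonempty_twist_zero_iso (𝒜 := CohB1.polyGrading n (ULift.{u} ℤ))
  let pr := pullback.fst (CohB1.ProjSpace.toSpec n (ULift.{u} ℤ)) (specULiftZIsTerminal.from S)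
  let w : Twist.twistOver n S 0 ≅ Coh.structureModule (CohB1.ProjSpaceOver n S) :=
    (Scheme.Modules.pullback pr).mapIso z ≪≫ DerPerf.pullUnitIso pr
  let v : (Scheme.Modules.pullback i).obj (Twist.twistOver n S 0) ≅ Coh.structureModule X :=
    (Scheme.Modules.pullback i).mapIso w ≪≫ DerPerf.pullUnitIso i
  let q : (∐ fun _ : Fin 1 => (Scheme.Modules.pullback i).obj (Twist.twistOver n S 0)) ⟶ Coh.structureModule X :=
    Limits.Sigma.desc fun _ => v.hom
  haveI : Epi q := epi_of_epi_fac (Limits.Sigma.ι_desc (fun _ => v.hom) (0 : Fin 1))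
  obtain ⟨Q, K, hK, rest⟩ := QuotProj.exists_quot_projective_countable i rfl hO 1 0 q
  obtain ⟨Z, hZ⟩ := QuotProj.HilbQ.exists_hilb_of_quot Q K hK
  exact ⟨Q, Z, hZ, rest⟩

end Groth.Agent.FreeCurve
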