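import Groth.Agent.FreeCurve.MorExist
import Groth.Agent.FreeCurve.MorP1
import Groth.Agent.CountHilb.Hilb
import Mathlib

/-!
# The scheme of morphisms has a countable cover by quasi-compact opens
-/

set_option autoImplicit false
set_option linter.style.haveILetI false
set_option backward.isDefEq.respectTransparency false
set_option backward.isDefEq.respectTransparency.types false
set_option maxHeartbeats 1000000

universe u

open CategoryTheory CategoryTheory.Limits AlgebraicGeometry TopologicalSpace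

noncomputable section

namespace Groth.Agent.FreeCurve

/-- A countable cover by quasi-compact opens. -/
def HasCountCover (M : Scheme.{u}) : Prop :=
  ∃ (κ : Type u) (_ : Countable κ) (U : κ → M.Opens), (∀ a, IsCompact (U a : Set M)) ∧ ⨆ a, U a = ⊤

/-- A countable cover passes to an open subscheme. -/
theorem HasCountCover.of_isOpenImmersion {M M₀ : Scheme.{u}} [IsLocallyNoetherian M] (h : HasCountCover M)
    (j : M₀ ⟶ M) [IsOpenImmersion j] : HasCountCover M₀ := by
  obtain ⟨κ, hκ, U, hU, hsup⟩ := h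
  refine ⟨κ, hκ, fun a => j ⁻¹ᵁ U a, fun a => ?_, ?_⟩
  · haveI : CompactSpace ↥(U a : Scheme.{u}) := isCompact_iff_compactSpace.1 (hU a)
    haveI : IsNoetherian (U a : Scheme.{u}) := {}
    rw [j.isOpenEmbedding.isInducing.isCompact_iff]
    have h1 : IsCompact ((U a).ι ⁻¹' (j '' ((j ⁻¹ᵁ U a : M₀.Opens) : Set M₀))) := NoetherianSpace.isCompact _
    have h2 := h1.image (U a).ι.continuous
    rwa [Set.image_preimage_eq_of_subset] at h2
    rw [Scheme.Opens.range_ι]
    rintro _ ⟨y, hy, rfl⟩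
    exact hy
  · rw [← Scheme.Hom.preimage_iSup, hsup]
    rfl

/-- A countable disjoint union of quasi-compact schemes has a countable cover. -/
theorem hasCountCover_sigma {ι : Type u} [Countable ι] (P : ι → Scheme.{u}) {H : Scheme.{u}} (e : (∐ P) ≅ H)
    (hc : ∀ a, CompactSpace ↥(P a)) : HasCountCover H := by
  haveI := hc
  let U : ι → H.Opens := fun a => e.inv ⁻¹ᵁ (Limits.Sigma.ι P a).opensRange
  refine ⟨ι, inferInstance, U, fun a => ?_, ?_⟩
  · exact e.inv.homeomorph.isCompact_preimage.2 (isCompact_range (Limits.Sigma.ι P a).continuous)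
  · have h := (sigmaOpenCover P).iSup_opensRange
    change ⨆ a, (Limits.Sigma.ι P a).opensRange = ⊤ at h
    rw [← Scheme.Hom.preimage_iSup, h]
    rfl

variable {Y X X' S : Scheme.{u}} {p : Y ⟶ S}

/-- The morphisms into an open subscheme form an open subscheme of the scheme of morphisms. -/
theorem exists_univN_open_cover [IsProper p] {q' : X' ⟶ S} {q : X ⟶ S} (j : X ⟶ X') [IsOpenImmersion j]
    (hj : j ≫ q' = q) {M : Over S} [LocallyOfFiniteType M.hom] {v : MorSch.Obj p q' M}
    (h : IsUnivN p q' M v) (hcov : HasCountCover M.left) :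
    ∃ (M₀ : Over S) (_ : LocallyOfFiniteType M₀.hom) (v₀ : MorSch.Obj p q M₀), IsUnivN p q M₀ v₀ ∧ HasCountCover M₀.left := by
  haveI := h.1
  let pr := PicF.XTproj p M
  haveI : IsProper pr := MorphismProperty.pullback_snd _ _ inferInstance
  let U : M.left.Opens := ⟨(pr '' (v.1 ⁻¹' (Set.range j)ᶜ))ᶜ,
    (pr.isClosedMap _ (j.isOpenEmbedding.isOpen_range.isClosed_compl.preimage v.1.continuous)).isOpen_compl⟩
  let M₀ : Over S := Over.mk (U.ι ≫ M.hom)
  let i : M₀ ⟶ M := Over.homMk U.ι rfl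
  have key : ∀ (T : Over S) (g : T ⟶ M),
      Set.range g.left ⊆ (U : Set M.left) ↔ Set.range (MorSch.pull p q' g v).1 ⊆ Set.range j := by
    intro T g
    constructor
    · rintro hg _ ⟨z, rfl⟩
      by_contra hz
      refine hg ⟨PicF.XTproj p T z, rfl⟩ ⟨PicF.XTmap p g z, hz, ?_⟩
      exact congrArg (fun f => f z) (congrArg (fun f => f.base.hom.toFun) (S17082.isPullback_XTmap p g).w)
    · rintro hg _ ⟨t, rfl⟩ ⟨w, hw, hwt⟩
      obtain ⟨z, hz, -⟩ := Scheme.exists_preimage_of_isPullback (S17082.isPullback_XTmap p g) w t hwt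
      exact hw (hz ▸ hg ⟨z, rfl⟩)
  have hr : Set.range (MorSch.pull p q' i v).1 ⊆ Set.range j := (key M₀ i).1 (U.range_ι).le
  let v₀ : MorSch.Obj p q M₀ := ⟨IsOpenImmersion.lift j _ hr, by
    rw [← hj, ← Category.assoc, IsOpenImmersion.lift_fac]; exact (MorSch.pull p q' i v).2⟩
  have hv₀ : v₀.1 ≫ j = PicF.XTmap p i ≫ v.1 := IsOpenImmersion.lift_fac _ _ _
  have hl : LocallyOfFiniteType (U.ι ≫ M.hom) := inferInstance
  haveI : IsLocallyNoetherian M₀.left := inferInstanceAs (IsLocallyNoetherian (U : Scheme.{u}))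
  refine ⟨M₀, hl, v₀, ⟨inferInstance, fun T _ φ => ?_⟩, hcov.of_isOpenImmersion U.ι⟩
  obtain ⟨g, hg, hu⟩ := h.2 T ⟨φ.1 ≫ j, by rw [Category.assoc, hj]; exact φ.2⟩
  have hgU : Set.range g.left ⊆ (U : Set M.left) := (key T g).2 (by
    rw [hg]
    rintro _ ⟨z, rfl⟩
    exact ⟨φ.1 z, rfl⟩)
  let g₀ : T ⟶ M₀ := Over.homMk (IsOpenImmersion.lift U.ι g.left (hgU.trans U.range_ι.ge)) (by
    show IsOpenImmersion.lift U.ι g.left _ ≫ U.ι ≫ M.hom = _
    rw [← Category.assoc, IsOpenImmersion.lift_fac, Over.w g])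
  have hg₀ : g₀ ≫ i = g := Over.OverMorphism.ext (IsOpenImmersion.lift_fac _ _ _)
  refine ⟨g₀, MorSch.Obj.ext ((cancel_mono j).1 ?_), fun g' hg' => ?_⟩
  · rw [MorSch.pull_val, Category.assoc, hv₀, ← Category.assoc, ← MorSch.XTmap_comp, hg₀]
    exact congrArg (fun ψ : MorSch.Obj p q' T => ψ.1) hg
  · have h2 : g' ≫ i = g := hu _ (MorSch.Obj.ext (by
      rw [MorSch.pull_val, MorSch.XTmap_comp, Category.assoc, ← hv₀, ← Category.assoc]
      exact congrArg (fun ψ : MorSch.Obj p q T => ψ.1 ≫ j) hg'))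
    exact Over.OverMorphism.ext ((cancel_mono U.ι).1 ((congrArg (fun f => f.left) (h2.trans hg₀.symm))))

/-- Schemes of morphisms exist for a projective flat source and a quasi-projective target. -/
theorem exists_univN_countable [IsNoetherian S] [Flat p] {a b : ℕ} (i : Y ⟶ CohB1.ProjSpaceOver a S) [IsClosedImmersion i]
    (hi : i ≫ CohB1.ProjSpaceOver.toBase a S = p) {q : X ⟶ S} (c : X ⟶ CohB1.ProjSpaceOver b S) [IsImmersion c]
    [QuasiCompact c] (hc : c ≫ CohB1.ProjSpaceOver.toBase b S = q) :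
    ∃ (M : Over S) (_ : LocallyOfFiniteType M.hom) (v : MorSch.Obj p q M), IsUnivN p q M v ∧ HasCountCover M.left := by
  haveI : IsProper (CohB1.ProjSpaceOver.toBase a S) := HQProj.isProper_toBase a S
  haveI : IsProper (CohB1.ProjSpaceOver.toBase b S) := HQProj.isProper_toBase b S
  haveI : IsProper p := hi ▸ inferInstance
  let q' : c.image ⟶ S := c.imageι ≫ CohB1.ProjSpaceOver.toBase b S
  haveI : IsProper q' := inferInstanceAs (IsProper (c.imageι ≫ CohB1.ProjSpaceOver.toBase b S))
  obtain ⟨m, e, he, heb⟩ := QuotProj.Flag.exists_closed_product i c.imageι p q' hi rfl (𝟙 (pullback p q'))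
  rw [Category.id_comp] at heb
  haveI := he
  obtain ⟨H, Z, hH, ι, hι, P, eH, r, d, hd⟩ := exists_hilb_countable S m (pullback p q') e
  haveI := hι
  haveI : LocallyOfFiniteType H.hom := by
    haveI : ∀ a, LocallyOfFiniteType (Limits.Sigma.ι P a ≫ eH.hom ≫ H.hom) := fun a => by
      haveI := (hd a).1
      haveI : IsProper (CohB1.ProjSpaceOver.toBase (r a) S) := HQProj.isProper_toBase (r a) S
      rw [← (hd a).2]; infer_instance
    have : LocallyOfFiniteType (eH.hom ≫ H.hom) :=
      IsZariskiLocalAtSource.of_openCover (P := @LocallyOfFiniteType) (sigmaOpenCover P) fun a => this a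
    exact (MorphismProperty.cancel_left_of_respectsIso @LocallyOfFiniteType eH.hom H.hom).1 this
  revert Z hH
  rw [heb]
  intro Z hH
  obtain ⟨H₀, v', hv', -, -⟩ := exists_open_locus (p := p) (q := q') H Z hH
  haveI : LocallyOfFiniteType (Over.mk (H₀.ι ≫ H.hom)).hom := inferInstanceAs (LocallyOfFiniteType (H₀.ι ≫ H.hom))
  haveI : IsLocallyNoetherian H.left := LocallyOfFiniteType.isLocallyNoetherian H.hom
  have hHc : HasCountCover H.left := hasCountCover_sigma P eH fun a => by
    haveI := (hd a).1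
    haveI : IsProper (CohB1.ProjSpaceOver.toBase (r a) S) := HQProj.isProper_toBase (r a) S
    exact QuasiCompact.compactSpace_of_compactSpace (d a ≫ CohB1.ProjSpaceOver.toBase (r a) S)
  exact exists_univN_open_cover c.toImage (by
    show c.toImage ≫ c.imageι ≫ _ = q
    rw [← Category.assoc, c.toImage_imageι, hc]) hv' (hHc.of_isOpenImmersion H₀.ι)


/-- The scheme of rational curves on a quasi-projective scheme, with a countable cover. -/
theorem exists_mor_countable {k : Type u} [Field k] {X : Scheme.{u}} (q : X ⟶ Spec (CommRingCat.of k))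
    (hqp : ∃ (N : ℕ) (ι : X ⟶ CohB1.ProjSpace N k), IsImmersion ι ∧ ι ≫ CohB1.ProjSpace.toSpec N k = q) :
    ∃ (M : Over (Spec (CommRingCat.of k))) (_ : LocallyOfFiniteType M.hom)
      (v : MorSch.Obj (CohB1.ProjSpace.toSpec 1 k) q M),
      IsUnivN (CohB1.ProjSpace.toSpec 1 k) q M v ∧ HasCountCover M.left := by
  obtain ⟨N, ι, hι, hιq⟩ := hqp
  haveI := hι
  haveI := ProjMor.isProper_toSpec N k
  haveI : IsLocallyNoetherian (CohB1.ProjSpace N k) :=
    LocallyOfFiniteType.isLocallyNoetherian (CohB1.ProjSpace.toSpec N k)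
  haveI := smooth_toSpec k
  obtain ⟨e, he⟩ := PnSpec.exists_iso 1 k
  obtain ⟨eN, heN⟩ := PnSpec.exists_iso N k
  haveI : QuasiCompact ι := by rw [← ι.liftCoborder_ι]; infer_instance
  exact exists_univN_countable e.hom he (ι ≫ eN.hom) (by rw [Category.assoc, heN, hιq])

end Groth.Agent.FreeCurve
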