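import Groth.Agent.QuotProj.Union
import Groth.Agent.QuotProj.Apps
import Mathlib.LinearAlgebra.Basis.Defs
import Mathlib.Algebra.Polynomial.Basis

/-!
# Quot schemes are countable disjoint unions
-/

set_option autoImplicit false
set_option backward.isDefEq.respectTransparency false
set_option backward.isDefEq.respectTransparency.types false
set_option linter.style.haveILetI false
set_option maxHeartbeats 1000000

universe u

open CategoryTheory CategoryTheory.Limits AlgebraicGeometry TopologicalSpace Opposite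
open Groth.Agent.QC (res res_res res_self app_res)

noncomputable section

namespace Groth.Agent.QuotProj

variable {X S : Scheme.{u}} {f : X ⟶ S} {E : X.Modules} {L : X.Modules}

instance countable_ratPoly : Countable (Polynomial ℚ) :=
  (Polynomial.basisMonomials ℚ).repr.injective.countable

/-- The Quot scheme as a countable disjoint union of the representing pieces. -/
theorem exists_quot_union_countable [IsProper f] [IsLocallyNoetherian S] (hE : Coh.IsCoh E) (hL : PicF.IsInvertible L)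
    (P : Over S → Prop) (hrep : ∀ Φ : Polynomial ℚ, ∃ (Q : Over S) (aQ : Quo f E Q), Rep L Φ Q aQ ∧ P Q) :
    ∃ (Q : Over S) (K : FGA.QuotSet f E Q), FGA.QuotRepresentedBy f E Q K ∧
      ∃ (ι : Type u) (_ : Countable ι) (W : ι → Scheme.{u}) (e : (∐ W) ≅ Q.left), ∀ i, P (Over.mk (Limits.Sigma.ι W i ≫ e.hom ≫ Q.hom)) := by
  classical
  haveI : LocallyOfFinitePresentation f := inferInstance
  choose Qp aq hq hP using fun Φ : ULift.{u} (Polynomial ℚ) => hrep Φ.down
  let W := fun Φ => (Qp Φ).left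
  let Q : Over S := Over.mk (Limits.Sigma.desc fun Φ => (Qp Φ).hom)
  let k : ∀ Φ, Qp Φ ⟶ Q := fun Φ => Over.homMk (Limits.Sigma.ι W Φ) (colimit.ι_desc _ _)
  haveI : ∀ Φ, IsOpenImmersion (k Φ).left := fun Φ => inferInstanceAs (IsOpenImmersion (Limits.Sigma.ι W Φ))
  have hd : ∀ a b x y, (k a).left x = (k b).left y → a = b := fun a b x y h =>
    congrArg Sigma.fst ((sigmaMk W).injective (a₁ := ⟨a, x⟩) (a₂ := ⟨b, y⟩)
      ((sigmaMk_mk W a x).trans (h.trans (sigmaMk_mk W b y).symm)))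
  have hcov : ∀ z, ∃ i x, (k i).left x = z := fun z => by
    obtain ⟨⟨i, x⟩, hx⟩ := (sigmaMk W).surjective z
    exact ⟨i, x, (sigmaMk_mk W i x).symm.trans hx⟩
  haveI : IsLocallyNoetherian Q.left := by
    haveI : ∀ Φ, IsLocallyNoetherian (W Φ) := fun Φ => (hq Φ).noeth
    refine (isLocallyNoetherian_iff_openCover (sigmaOpenCover W)).2 fun j => ?_
    change IsLocallyNoetherian (W j)
    infer_instance
  obtain ⟨A, hA, hAk⟩ := exists_glue_quo hE k hd hcov aq fun Φ => (hq Φ).fam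
  have hpolyA : ∀ Φ x (n : ℕ), (A.hf L ((k Φ).left x) n : ℚ) = Φ.down.eval (n : ℚ) := fun Φ x n => by
    rw [← Quo.hf_pull hL A hA.1.1, Quo.hf_congr (hAk Φ)]
    exact (hq Φ).poly x n
  refine ⟨Q, A.toSet hA, ⟨inferInstance, fun T _ K' => ?_⟩, _, (inferInstance : Countable (ULift.{u} (Polynomial ℚ))), W, Iso.refl _, fun Φ => ?_⟩
  swap
  · have hQ : (Qp Φ) = Over.mk (Qp Φ).hom := rfl
    have := hP Φ
    rw [hQ] at this
    exact (show Limits.Sigma.ι W Φ ≫ (Iso.refl _).hom ≫ Q.hom = (Qp Φ).hom by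
      rw [Iso.refl_hom, Category.id_comp]; exact colimit.ι_desc _ _) ▸ this
  let a := Quo.ofSub K'.1
  have ha : a.IsFam := isFam_ofSub K'
  haveI : IsProper (PicF.XTproj f T) := MorphismProperty.pullback_snd _ _ ‹_›
  haveI := isLocallyNoetherian_XT (f := f) T
  choose pol hpol using fun t : T.left =>
    exists_hilb_poly (PicF.XTproj f T) (PicLoc.isInvertible_pullback (pullback.fst f T.hom) hL) ha.1 t
  have hpol_eq : ∀ {t : T.left} {P : Polynomial ℚ}, (∀ j : ℕ, (a.hf L t j : ℚ) = P.eval (j : ℚ)) → pol t = P :=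
    fun {t P} h => Polynomial.eq_of_infinite_eval_eq _ _ (Set.infinite_of_injective_forall_mem
      (f := fun j : ℕ => (j : ℚ)) Nat.cast_injective fun j => by
        show (pol t).eval _ = P.eval _
        rw [← hpol t j]; exact h j)
  let Φt : T.left → ULift.{u} (Polynomial ℚ) := fun t => ⟨pol t⟩
  have hlc : IsLocallyConstant Φt := by
    rw [IsLocallyConstant.iff_exists_open]
    intro t
    obtain ⟨U, hU, htU, hconst⟩ := (IsLocallyConstant.iff_exists_open _).1 (ha.isOpen_hasPoly hL) t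
    exact ⟨U, hU, htU, fun s hs => congrArg ULift.up (hpol_eq fun j => by
      rw [show a.hf L s = a.hf L t from hconst s hs]; exact hpol t j)⟩
  let O : ULift.{u} (Polynomial ℚ) → T.left.Opens := fun Φ => ⟨Φt ⁻¹' {Φ}, hlc _⟩
  let TO : ULift.{u} (Polynomial ℚ) → Over S := fun Φ => Over.mk ((O Φ).ι ≫ T.hom)
  let o : ∀ Φ, TO Φ ⟶ T := fun Φ => Over.homMk (O Φ).ι rfl
  haveI : ∀ Φ, IsLocallyNoetherian (TO Φ).left := fun Φ => inferInstanceAs (IsLocallyNoetherian (O Φ).toScheme)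
  have hpolO : ∀ Φ, (a.pull (o Φ)).HasPoly L Φ.down := fun Φ t n => by
    rw [Quo.hf_pull hL a ha.1.1]
    rw [show Φ.down = pol ((o Φ).left t) from (congrArg ULift.down (show Φt ((o Φ).left t) = Φ from t.2)).symm]
    exact hpol _ n
  haveI : ∀ Φ, IsOpenImmersion (o Φ).left := fun Φ => inferInstanceAs (IsOpenImmersion (O Φ).ι)
  choose g hg huniq using fun Φ => (hq Φ).univ (TO Φ) (a.pull (o Φ)) (ha.pull (o Φ)) (hpolO Φ)
  have hgA : ∀ Φ, (A.pull (g Φ ≫ k Φ)).Rel (a.pull (o Φ)) := fun Φ =>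
    (Quo.pull_pull A (g Φ) (k Φ)).symm.trans (((hAk Φ).pull (g Φ)).trans (hg Φ))
  have hOcov : TopologicalSpace.IsOpenCover O := TopologicalSpace.IsOpenCover.mk
    (eq_top_iff.2 fun t _ => Opens.mem_iSup.2 ⟨Φt t, rfl⟩)
  let C := T.left.openCoverOfIsOpenCover O hOcov
  let G : T.left ⟶ Q.left := C.glueMorphisms (fun Φ => (g Φ ≫ k Φ).left) (fun Φ Ψ => by
    by_cases h : Φ = Ψ
    · subst h
      have e : pullback.fst (C.f Φ) (C.f Φ) = pullback.snd (C.f Φ) (C.f Φ) := by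
        rw [← cancel_mono (C.f Φ)]; exact pullback.condition
      rw [e]
    · haveI : IsEmpty (pullback (C.f Φ) (C.f Ψ) : Scheme) := ⟨fun z => h (by
        have hz := congr(($(pullback.condition (f := C.f Φ) (g := C.f Ψ))) z)
        exact ((show Φt (C.f Φ ((pullback.fst (C.f Φ) (C.f Ψ)) z)) = Φ from
          ((pullback.fst (C.f Φ) (C.f Ψ)) z).2).symm.trans (congrArg Φt hz)).trans
            (show Φt (C.f Ψ ((pullback.snd (C.f Φ) (C.f Ψ)) z)) = Ψ from ((pullback.snd (C.f Φ) (C.f Ψ)) z).2))⟩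
      exact (isInitialOfIsEmpty (X := pullback (C.f Φ) (C.f Ψ))).hom_ext _ _)
  have hG : ∀ Φ, (O Φ).ι ≫ G = (g Φ ≫ k Φ).left := fun Φ => C.ι_glueMorphisms _ _ Φ
  have hGS : G ≫ Q.hom = T.hom := C.hom_ext _ _ fun Φ => by
    rw [← Category.assoc]
    exact (congrArg (· ≫ Q.hom) (hG Φ)).trans (Over.w (g Φ ≫ k Φ))
  let G' : T ⟶ Q := Over.homMk G hGS
  have hoG : ∀ Φ, o Φ ≫ G' = g Φ ≫ k Φ := fun Φ => Over.OverMorphism.ext (hG Φ)
  refine ⟨G', (Quo.quotPull_eq_iff A G' K'.1).2 ?_, fun G₂ hG₂ => ?_⟩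
  · exact rel_of_cover o (fun t => ⟨Φt t, ⟨t, rfl⟩, rfl⟩) _ _ fun Φ =>
      ((Quo.pull_pull A (o Φ) G').trans (by rw [hoG]; exact hgA Φ))
  · replace hG₂ := (Quo.quotPull_eq_iff A G₂ K'.1).1 hG₂
    refine Over.OverMorphism.ext (C.hom_ext _ _ fun Φ => ?_)
    have hrange : Set.range ((o Φ ≫ G₂).left) ⊆ Set.range (k Φ).left := by
      rintro _ ⟨t, rfl⟩
      obtain ⟨Ψ, x, hx⟩ := hcov ((o Φ ≫ G₂).left t)
      suffices Ψ = Φ by subst this; exact ⟨x, hx⟩
      have h1 : pol ((o Φ).left t) = Ψ.down := hpol_eq fun j => by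
        rw [← Quo.hf_congr hG₂, Quo.hf_pull hL A hA.1.1]
        refine (show _ = (A.hf L ((k Ψ).left x) j : ℚ) from ?_).trans (hpolyA Ψ x j)
        rw [hx]
        rfl
      exact ULift.ext _ _ (h1.symm.trans (congrArg ULift.down (show Φt ((o Φ).left t) = Φ from t.2)))
    let h : TO Φ ⟶ Qp Φ := Over.homMk (IsOpenImmersion.lift (k Φ).left _ hrange)
      (by rw [← Over.w (k Φ), IsOpenImmersion.lift_fac_assoc]; exact Over.w (o Φ ≫ G₂))
    have hh : h ≫ k Φ = o Φ ≫ G₂ := Over.OverMorphism.ext (IsOpenImmersion.lift_fac _ _ hrange)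
    have heq : h = g Φ := huniq Φ h (by
      refine (((hAk Φ).pull h).symm.trans ((Quo.pull_pull A h (k Φ)).trans ?_))
      rw [hh]
      exact (Quo.pull_pull A (o Φ) G₂).symm.trans (hG₂.pull (o Φ)))
    change (o Φ).left ≫ G₂.left = (O Φ).ι ≫ G
    rw [hG, ← heq, hh]
    rfl

/-- Quot schemes of quotients of twisted free modules are countable disjoint unions of projective schemes. -/
theorem exists_quot_projective_countable {X S : Scheme.{u}} [IsNoetherian S] {n : ℕ} {f : X ⟶ S}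
    (i : X ⟶ CohB1.ProjSpaceOver n S) [IsClosedImmersion i] (hf : i ≫ CohB1.ProjSpaceOver.toBase n S = f)
    {E : X.Modules} (hE : Coh.IsCoh E) (p : ℕ) (ν : ℤ)
    (q : (∐ fun _ : Fin p => (Scheme.Modules.pullback i).obj (Twist.twistOver n S ν)) ⟶ E) [Epi q] :
    ∃ (Q : Over S) (K : FGA.QuotSet f E Q), FGA.QuotRepresentedBy f E Q K ∧
      ∃ (ι : Type u) (_ : Countable ι) (P : ι → Scheme.{u}) (e : (∐ P) ≅ Q.left) (m : ι → ℕ)
        (c : ∀ a, P a ⟶ CohB1.ProjSpaceOver (m a) S),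
        ∀ a, IsClosedImmersion (c a) ∧
          c a ≫ CohB1.ProjSpaceOver.toBase (m a) S = Limits.Sigma.ι P a ≫ e.hom ≫ Q.hom := by
  subst hf
  haveI : IsProper (CohB1.ProjSpaceOver.toBase n S) := HQProj.isProper_toBase n S
  haveI : IsProper (i ≫ CohB1.ProjSpaceOver.toBase n S) := inferInstance
  obtain ⟨Q, K, hK, ι, hι, W, e, hW⟩ := exists_quot_union_countable (f := i ≫ CohB1.ProjSpaceOver.toBase n S)
    (L := (Scheme.Modules.pullback i).obj (Twist.twistOver n S 1)) hE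
    (PicLoc.isInvertible_pullback i (PicFam.isInvertible_twistOver n S 1))
    (fun Q => ∃ (R : ℕ) (c : Q.left ⟶ CohB1.ProjSpaceOver R S),
      IsClosedImmersion c ∧ c ≫ CohB1.ProjSpaceOver.toBase R S = Q.hom)
    (fun Φ => by
      obtain ⟨Q, aQ, h, hc⟩ := exists_quot_free i hE p ν q Φ
      exact ⟨Q, aQ, h, hc⟩)
  choose R c hc hcb using hW
  exact ⟨Q, K, hK, ι, hι, W, e, R, c, fun a => ⟨hc a, hcb a⟩⟩

end Groth.Agent.QuotProj

end
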